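import Groth.Agent.Lib.JacQuot4
import Mathlib

/-!
The Jacobian criterion for smoothness of a quotient of a smooth algebra at a prime.
-/

set_option autoImplicit false
set_option maxHeartbeats 400000
universe u

open TensorProduct IsLocalRing KaehlerDifferential

namespace Groth.Agent.Lib.JacAt21


section Global

variable (R A : Type u) [CommRing R] [CommRing A] [IsNoetherianRing R] [Algebra R A]
  [Algebra.FiniteType R A] (I : Ideal A) (P : Ideal (A ⧸ I)) [P.IsPrime]

/-- The Jacobian criterion for the smoothness of `A/I` at `P`, for `A` of finite type and smooth at the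
prime below `P`. -/
theorem isSmoothAt_quotient_iff_of_isSmoothAt (q : Ideal A) [q.IsPrime]
    (hq : q = P.comap (Ideal.Quotient.mk I)) (hsm : Algebra.IsSmoothAt R q) :
    Algebra.IsSmoothAt R P ↔ ∃ s : Finset A, (↑s : Set A) ⊆ (I : Set A) ∧
      Ideal.map (algebraMap A (Localization.AtPrime q)) I =
        Ideal.span ((algebraMap A (Localization.AtPrime q)) '' (↑s : Set A)) ∧
      LinearIndependent q.ResidueField
        (fun g : ↥s => (1 : q.ResidueField) ⊗ₜ[A] KaehlerDifferential.D R A (g : A)) := by
  classical
  have hIq : I ≤ q := fun x hx => by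
    rw [hq, Ideal.mem_comap, Ideal.Quotient.eq_zero_iff_mem.mpr hx]
    exact P.zero_mem
  set φ : Localization.AtPrime q →+* Localization.AtPrime P :=
    Localization.localRingHom q P (Ideal.Quotient.mk I) hq with hφdef
  have hφsurj : Function.Surjective φ := by
    intro x
    obtain ⟨y, ⟨t, ht⟩, rfl⟩ := IsLocalization.exists_mk'_eq P.primeCompl x
    obtain ⟨y, rfl⟩ := Ideal.Quotient.mk_surjective y
    obtain ⟨t, rfl⟩ := Ideal.Quotient.mk_surjective t
    have ht' : t ∈ q.primeCompl := fun h => ht (by rw [hq] at h; exact h)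
    exact ⟨IsLocalization.mk' _ y ⟨t, ht'⟩, Localization.localRingHom_mk' q P _ hq y ⟨t, ht'⟩⟩
  have hker : RingHom.ker φ = I.map (algebraMap A (Localization.AtPrime q)) := by
    refine le_antisymm (fun x hx => ?_) (Ideal.map_le_iff_le_comap.mpr fun a ha => ?_)
    · obtain ⟨y, t, rfl⟩ := IsLocalization.exists_mk'_eq q.primeCompl x
      rw [RingHom.mem_ker, hφdef, Localization.localRingHom_mk', IsLocalization.mk'_eq_zero_iff]
        at hx
      obtain ⟨⟨m, hm⟩, hm0⟩ := hx
      obtain ⟨m, rfl⟩ := Ideal.Quotient.mk_surjective m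
      rw [← map_mul, Ideal.Quotient.eq_zero_iff_mem] at hm0
      rw [IsLocalization.mk'_mem_map_algebraMap_iff]
      exact ⟨m, fun h => hm (by rw [hq] at h; exact h), hm0⟩
    · simp [hφdef, Ideal.Quotient.eq_zero_iff_mem.mpr ha]
  have hkerle : RingHom.ker φ ≤ RingHom.ker (algebraMap (Localization.AtPrime q) q.ResidueField) := by
    intro x hx
    rw [RingHom.mem_ker] at hx ⊢
    refine (IsLocalRing.residue_eq_zero_iff x).mpr fun hu => ?_
    exact (hu.map φ).ne_zero hx
  let ψ : Localization.AtPrime P →+* q.ResidueField :=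
    φ.liftOfSurjective hφsurj ⟨algebraMap (Localization.AtPrime q) q.ResidueField, hkerle⟩
  letI := φ.toAlgebra
  letI := ψ.toAlgebra
  haveI : IsScalarTower R (Localization.AtPrime q) (Localization.AtPrime P) :=
    IsScalarTower.of_algebraMap_eq fun r => by
      show _ = φ _
      rw [IsScalarTower.algebraMap_apply R A (Localization.AtPrime q), hφdef,
        Localization.localRingHom_to_map,
        IsScalarTower.algebraMap_apply R (A ⧸ I) (Localization.AtPrime P)]
      rfl
  haveI : IsScalarTower (Localization.AtPrime q) (Localization.AtPrime P) q.ResidueField :=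
    IsScalarTower.of_algebraMap_eq fun x =>
      show _ = ψ (φ x) from
        (RingHom.liftOfSurjective_comp_apply φ hφsurj
          ⟨algebraMap (Localization.AtPrime q) q.ResidueField, hkerle⟩ x).symm
  haveI : Algebra.FormallyEtale A (Localization.AtPrime q) := .of_isLocalization q.primeCompl
  haveI : Algebra.FormallySmooth R (Localization.AtPrime q) := hsm
  haveI : Module.Finite (Localization.AtPrime q) Ω[Localization.AtPrime q⁄R] :=
    Module.Finite.equiv (tensorKaehlerEquivOfFormallyEtale R A (Localization.AtPrime q))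
  haveI : Module.Free (Localization.AtPrime q) Ω[Localization.AtPrime q⁄R] :=
    Module.free_of_flat_of_isLocalRing
  haveI : IsNoetherianRing A := Algebra.FiniteType.isNoetherianRing R A
  haveI : IsNoetherianRing (Localization.AtPrime q) :=
    IsLocalization.isNoetherianRing q.primeCompl _ inferInstance
  have h₂ : (RingHom.ker (algebraMap (Localization.AtPrime q) (Localization.AtPrime P))).FG :=
    IsNoetherian.noetherian _
  have h₃ : maximalIdeal (Localization.AtPrime P) ≤
      RingHom.ker (algebraMap (Localization.AtPrime P) q.ResidueField) := by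
    intro x hx
    obtain ⟨y, rfl⟩ := hφsurj x
    rw [RingHom.mem_ker]
    show ψ (φ y) = 0
    rw [RingHom.liftOfSurjective_comp_apply φ hφsurj]
    exact (IsLocalRing.residue_eq_zero_iff y).mpr fun hu => hx (hu.map φ)
  rw [show Algebra.IsSmoothAt R P ↔
    Algebra.FormallySmooth R (Localization.AtPrime P) from Iff.rfl,
    Algebra.FormallySmooth.iff_injective_cotangentComplexBaseChange
      (Localization.AtPrime q) q.ResidueField hφsurj h₂ h₃]
  let e : q.ResidueField ⊗[Localization.AtPrime q] Ω[Localization.AtPrime q⁄R] ≃ₗ[q.ResidueField]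
      q.ResidueField ⊗[A] Ω[A⁄R] :=
    AlgebraTensorModule.congr (LinearEquiv.refl q.ResidueField q.ResidueField)
      (tensorKaehlerEquivOfFormallyEtale R A (Localization.AtPrime q)).symm ≪≫ₗ
      AlgebraTensorModule.cancelBaseChange A (Localization.AtPrime q) q.ResidueField
        q.ResidueField Ω[A⁄R]
  have he : ∀ g : A, e (1 ⊗ₜ D R _ (algebraMap A (Localization.AtPrime q) g)) = 1 ⊗ₜ D R A g := by
    intro g
    simp [e, tensorKaehlerEquivOfFormallyEtale_symm_D_algebraMap]
  set cc := cotangentComplexBaseChange R (Localization.AtPrime P) (Localization.AtPrime q)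
    q.ResidueField with hcc
  have hmem : ∀ g : I, algebraMap A (Localization.AtPrime q) g ∈
      RingHom.ker (algebraMap (Localization.AtPrime q) (Localization.AtPrime P)) := fun g =>
    hker.ge (Ideal.mem_map_of_mem _ g.2)
  have hspan : Ideal.span (Set.range fun g : I => algebraMap A (Localization.AtPrime q) g) =
      RingHom.ker (algebraMap (Localization.AtPrime q) (Localization.AtPrime P)) := by
    rw [show RingHom.ker (algebraMap (Localization.AtPrime q) (Localization.AtPrime P)) =
      I.map (algebraMap A (Localization.AtPrime q)) from hker, Ideal.map]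
    congr 1
    ext x
    simp
  have hval : ∀ g : I, (e.toLinearMap ∘ₗ cc) (1 ⊗ₜ ⟨_, hmem g⟩) = 1 ⊗ₜ D R A g := by
    intro g
    rw [LinearMap.comp_apply, hcc, cotangentComplexBaseChange_tmul, one_smul, kerToTensor_apply]
    exact he g
  have := Groth.Agent.Lib.JacQuot4.injective_iff_exists_finset (B := Localization.AtPrime q) h₂ _ hmem hspan
    (e.toLinearMap ∘ₗ cc)
  rw [LinearMap.coe_comp, LinearEquiv.coe_coe, e.injective.of_comp_iff] at this
  refine this.trans ?_
  constructor
  · rintro ⟨t, ht, hli⟩
    refine ⟨t.map (Function.Embedding.subtype _), ?_, ?_, ?_⟩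
    · intro x hx
      simp only [Finset.coe_map, Function.Embedding.subtype_apply, Set.mem_image] at hx
      obtain ⟨g, -, rfl⟩ := hx
      exact g.2
    · rw [← hker]
      refine ht.trans ?_
      congr 1
      ext x
      simp
    · let j : ↥(t.map (Function.Embedding.subtype _)) → ↥t := fun x =>
        ⟨⟨x.1, by obtain ⟨g, -, hg⟩ := Finset.mem_map.mp x.2; exact (congrArg (· ∈ I) hg).mp g.2⟩,
         by obtain ⟨g, hg', hg⟩ := Finset.mem_map.mp x.2; convert hg' using 1; exact Subtype.ext hg.symm⟩
      have := hli.comp j fun x y hxy => Subtype.ext (congrArg (fun z : ↥t => (z.1 : A)) hxy)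
      convert this using 1
      all_goals first | rfl | (funext x; exact (hval (j x).1).symm)
  · rintro ⟨s, hs, hsp, hli⟩
    refine ⟨s.subtype (· ∈ I), ?_, ?_⟩
    · refine hker.trans (hsp.trans ?_)
      congr 1
      ext x
      simp only [Set.mem_image, Finset.mem_coe, Finset.mem_subtype]
      exact ⟨fun ⟨g, hg, hx⟩ => ⟨⟨g, hs hg⟩, hg, hx⟩, fun ⟨g, hg, hx⟩ => ⟨g, hg, hx⟩⟩
    · let j : ↥(s.subtype (· ∈ I)) → ↥s := fun x => ⟨x.1.1, Finset.mem_subtype.mp x.2⟩
      have := hli.comp j fun x y hxy =>
        Subtype.ext (Subtype.ext (congrArg (fun z : ↥s => (z : A)) hxy))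
      convert this using 1
      all_goals first | rfl | (funext x; exact hval x.1) | (funext x; exact (hval x.1).symm)

end Global

end Groth.Agent.Lib.JacAt21
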